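import Groth.Agent.Curves.K148.NodeFam
import Groth.Agent.Ega4B.CplFinite
import Groth.Agent.Ega4A.CplFlat
import Groth.Agent.CurvesB.CplMap

/-!
The completion of a flat local algebra over a Noetherian local ring whose closed fibre has a
binary quadratic singularity after completion.
-/

set_option autoImplicit false

universe u

namespace K148.NodeCpl

open IsLocalRing MvPowerSeries
open scoped TensorProduct

theorem equivQuotientMap_algebraMap {A : Type u} [CommRing A] [IsLocalRing A] [IsNoetherianRing A]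
    (q : Ideal A) [IsLocalRing (A ⧸ q)] (a : A) :
    Groth.Agent.Ega4B.CplFinite.equivQuotientMap A q (algebraMap _ _ (Ideal.Quotient.mk q a)) =
      Ideal.Quotient.mk _ (algebraMap A (AdicCompletion (maximalIdeal A) A) a) := by
  have h1 := Groth.Agent.Ega4B.CplFinite.equivQuotient_algebraMap A q (Ideal.Quotient.mk q a)
  rw [Groth.Agent.Ega4B.CplFinite.equivQuotientMap, RingEquiv.trans_apply, h1]
  change (Algebra.TensorProduct.quotIdealMapEquivTensorQuot
      (AdicCompletion (maximalIdeal A) A) q).symm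
      ((1 : AdicCompletion (maximalIdeal A) A) ⊗ₜ[A] (Ideal.Quotient.mk q a)) = _
  rw [AlgEquiv.symm_apply_eq]
  have h2 : ((1 : AdicCompletion (maximalIdeal A) A) ⊗ₜ[A] (Ideal.Quotient.mk q a)) =
      (algebraMap A (AdicCompletion (maximalIdeal A) A) a) ⊗ₜ[A] (1 : A ⧸ q) := by
    have h3 : (Ideal.Quotient.mk q a) = a • (1 : A ⧸ q) := by
      rw [Algebra.smul_def, mul_one]; rfl
    rw [h3, ← TensorProduct.smul_tmul, Algebra.smul_def, mul_one]
  rw [h2]
  rfl

/-- The completion of a surjection of local rings. -/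
theorem exists_cpl_surj {B F : Type u} [CommRing B] [CommRing F] [IsLocalRing B] [IsLocalRing F]
    [IsNoetherianRing B] (p : B →+* F) (hp : Function.Surjective p) :
    ∃ P : AdicCompletion (maximalIdeal B) B →+* AdicCompletion (maximalIdeal F) F,
      Function.Surjective P ∧
      RingHom.ker P = (RingHom.ker p).map (algebraMap B (AdicCompletion (maximalIdeal B) B)) ∧
      ∀ b, P (algebraMap B _ b) = algebraMap F _ (p b) := by
  let ε : (B ⧸ RingHom.ker p) ≃+* F := RingHom.quotientKerEquivOfSurjective hp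
  have hε : ∀ b, ε (Ideal.Quotient.mk _ b) = p b := fun b => rfl
  have hloc : IsLocalRing (B ⧸ RingHom.ker p) := ε.symm.isLocalRing
  let E := (Groth.Agent.Ega4B.CplFinite.equivQuotientMap B (RingHom.ker p)).symm.trans
    (Groth.Agent.CurvesB.CplMap.congrLocal ε)
  refine ⟨E.toRingHom.comp (Ideal.Quotient.mk _), ?_, ?_, fun b => ?_⟩
  · exact E.surjective.comp Ideal.Quotient.mk_surjective
  · ext x
    rw [RingHom.mem_ker, RingHom.comp_apply]
    change E _ = 0 ↔ _
    rw [map_eq_zero_iff E E.injective, Ideal.Quotient.eq_zero_iff_mem]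
  · change E (Ideal.Quotient.mk _ (algebraMap B _ b)) = _
    rw [← equivQuotientMap_algebraMap, RingEquiv.trans_apply, RingEquiv.symm_apply_apply,
      Groth.Agent.CurvesB.CplMap.congrLocal_algebraMap, hε]

/-- The residue map of the completion. -/
theorem exists_residue {A κ : Type*} [CommRing A] [IsLocalRing A] [Field κ]
    (ρ : A →+* κ) (hρ : Function.Surjective ρ) :
    ∃ ρ' : AdicCompletion (maximalIdeal A) A →+* κ, (∀ a, ρ' (algebraMap A _ a) = ρ a) ∧
      Function.Surjective ρ' := by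
  have hk : RingHom.ker ρ = maximalIdeal A := by
    have h1 : (RingHom.ker ρ).IsMaximal := RingHom.ker_isMaximal_of_surjective ρ hρ
    exact IsLocalRing.eq_maximalIdeal h1
  have hz : ∀ a ∈ maximalIdeal A, ρ a = 0 := fun a ha => by rwa [← hk] at ha
  let ρ' : AdicCompletion (maximalIdeal A) A →+* κ :=
    (Ideal.Quotient.lift (maximalIdeal A) ρ hz).comp
      (AdicCompletion.evalOneₐ (maximalIdeal A)).toRingHom
  have h : ∀ a, ρ' (algebraMap A _ a) = ρ a := by
    intro a
    change Ideal.Quotient.lift (maximalIdeal A) ρ hz (AdicCompletion.evalOneₐ (maximalIdeal A)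
      (algebraMap A _ a)) = _
    rw [AlgHom.commutes]
    exact Ideal.Quotient.lift_mk _ _ _
  refine ⟨ρ', h, fun x => ?_⟩
  obtain ⟨a, rfl⟩ := hρ x
  exact ⟨_, h a⟩

theorem main {A B F : Type u} [CommRing A] [CommRing B] [CommRing F] [IsLocalRing A]
    [IsLocalRing B] [IsLocalRing F] [IsNoetherianRing A] [IsNoetherianRing B] [Algebra A B]
    [IsLocalHom (algebraMap A B)] [Module.Flat A B]
    (p : B →+* F) (hp : Function.Surjective p)
    (hker : RingHom.ker p = (maximalIdeal A).map (algebraMap A B))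
    {κ : Type*} [Field κ] (ρ : A →+* κ) (hρ : Function.Surjective ρ) (j : κ →+* F)
    (hj : ∀ a, j (ρ a) = p (algebraMap A B a))
    (ρ' : AdicCompletion (maximalIdeal A) A →+* κ) (hρ' : ∀ a, ρ' (algebraMap A _ a) = ρ a)
    (hρ's : Function.Surjective ρ')
    (a b c : AdicCompletion (maximalIdeal A) A) (hdisc : ρ' (b ^ 2 - 4 * a * c) ≠ 0)
    (q : MvPowerSeries (Fin 2) κ)
    (hq : q = C (ρ' a) * X 0 ^ 2 + C (ρ' b) * X 0 * X 1 + C (ρ' c) * X 1 ^ 2)
    (e : AdicCompletion (maximalIdeal F) F ≃+* (MvPowerSeries (Fin 2) κ ⧸ Ideal.span {q}))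
    (he : ∀ r, e (algebraMap F _ (j r)) = Ideal.Quotient.mk _ (C r)) :
    IsUnit (b ^ 2 - 4 * a * c) ∧ ∃ h ∈ maximalIdeal (AdicCompletion (maximalIdeal A) A),
      ∃ e : AdicCompletion (maximalIdeal B) B ≃+*
          (MvPowerSeries (Fin 2) (AdicCompletion (maximalIdeal A) A) ⧸
            Ideal.span {NodeFam.qs a b c h}),
        ∀ r : A, e (algebraMap B _ (algebraMap A B r)) =
          Ideal.Quotient.mk _ (C (algebraMap A _ r)) := by
  have hNA := Groth.Agent.Ega4A.CplFlat.isNoetherianRing_cpl A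
  have hNB := Groth.Agent.Ega4A.CplFlat.isNoetherianRing_cpl B
  have hk : RingHom.ker ρ' = maximalIdeal (AdicCompletion (maximalIdeal A) A) := by
    have h1 : (RingHom.ker ρ').IsMaximal := RingHom.ker_isMaximal_of_surjective ρ' hρ's
    exact IsLocalRing.eq_maximalIdeal h1
  have hu : IsUnit (b ^ 2 - 4 * a * c) := by
    by_contra hn
    exact hdisc (by
      have h1 : b ^ 2 - 4 * a * c ∈ maximalIdeal (AdicCompletion (maximalIdeal A) A) := hn
      rwa [← hk] at h1)
  refine ⟨hu, ?_⟩
  let φ := Groth.Agent.Ega4A.CplFlat.cplMap A B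
  let _ : Algebra (AdicCompletion (maximalIdeal A) A) (AdicCompletion (maximalIdeal B) B) :=
    φ.toAlgebra
  have hflat : Module.Flat (AdicCompletion (maximalIdeal A) A)
      (AdicCompletion (maximalIdeal B) B) := Groth.Agent.Ega4A.CplFlat.flat_cplMap A B
  obtain ⟨P, hPs, hPk, hP⟩ := exists_cpl_surj p hp
  have hmm : (maximalIdeal (AdicCompletion (maximalIdeal A) A)).map φ = RingHom.ker P := by
    rw [hPk, hker]
    exact Groth.Agent.Ega4A.CplFlat.map_maximalIdeal_cplMap A B
  let π : AdicCompletion (maximalIdeal B) B →+* (MvPowerSeries (Fin 2) κ ⧸ Ideal.span {q}) :=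
    (e : _ →+* _).comp P
  have hπk : RingHom.ker π = (maximalIdeal (AdicCompletion (maximalIdeal A) A)).map φ := by
    rw [hmm]
    ext x
    rw [RingHom.mem_ker, RingHom.mem_ker, RingHom.comp_apply]
    exact map_eq_zero_iff e e.injective
  have hπa : ∀ r : A, π (φ (algebraMap A _ r)) = Ideal.Quotient.mk _ (C (ρ r)) := by
    intro r
    change e (P (Groth.Agent.Ega4A.CplFlat.cplMap A B (algebraMap A _ r))) = _
    rw [Groth.Agent.Ega4A.CplFlat.cplMap_algebraMap, hP, ← hj, he]
  obtain ⟨h, hh, E, hE⟩ := NodeFam.main (S := AdicCompletion (maximalIdeal B) B) ρ' hρ's a b c hu q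
    hq π (e.surjective.comp hPs) hπk (fun r => by
      obtain ⟨r0, hr0⟩ := hρ (ρ' r)
      have h1 : r - algebraMap A _ r0 ∈ maximalIdeal (AdicCompletion (maximalIdeal A) A) := by
        rw [← hk, RingHom.mem_ker, map_sub, hρ', hr0, sub_self]
      have h5 : π (φ (r - algebraMap A _ r0)) = 0 := by
        rw [← RingHom.mem_ker, hπk]
        exact Ideal.mem_map_of_mem _ h1
      rw [← hr0, ← hπa, ← sub_eq_zero, ← map_sub, ← h5]
      congr 1
      exact (map_sub φ _ _).symm)
  refine ⟨h, hh, E, fun r => ?_⟩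
  rw [← hE]
  congr 1

end K148.NodeCpl
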