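import Groth.Agent.Ega41.PowEval
import Groth.Agent.Ega41.MvPS
import Groth.Agent.Ega41.PowComplete
import Groth.Agent.CalgA.AdicLe
import Groth.Agent.CalgB.PowSer
import Mathlib.RingTheory.Flat.EquationalCriterion

/-!
Deformations of a binary quadratic singularity: a flat complete local algebra over a complete
Noetherian local ring `R` whose closed fibre is `κ[[u, v]] / (q)` with `q` of unit discriminant is
`R[[u, v]] / (Q - h)` for any lift `Q` of `q` and some `h` in the maximal ideal of `R`.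
-/

set_option autoImplicit false

universe u

namespace K148.NodeFam

open IsLocalRing MvPowerSeries

/-- Relations with coefficients in `I` in the kernel of a map onto a flat algebra. -/
theorem inf_ker_le {A R S : Type u} [CommRing A] [CommRing R] [Algebra A R] [CommRing S]
    [Algebra A S] (φ : R →ₐ[A] S) (hφ : Function.Surjective φ) [Module.Flat A S] (I : Ideal A) :
    I.map (algebraMap A R) ⊓ RingHom.ker φ ≤ I.map (algebraMap A R) * RingHom.ker φ := by
  rintro z ⟨hz, hzk⟩
  obtain ⟨n, r, g, hg⟩ := Submodule.mem_span_set'.mp hz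
  choose a ha haz using fun i => (g i).2
  have h1 : z = ∑ i, algebraMap A R (a i) * r i := by
    rw [← hg]
    refine Finset.sum_congr rfl fun i _ => ?_
    rw [haz, smul_eq_mul, mul_comm]
  have h2 : ∑ i, a i • φ (r i) = 0 := by
    have h3 : φ z = 0 := hzk
    rw [h1, map_sum] at h3
    rw [← h3]
    refine Finset.sum_congr rfl fun i _ => ?_
    rw [map_mul, AlgHom.commutes, Algebra.smul_def]
  obtain ⟨m, c, y, hy, hc⟩ := Module.Flat.isTrivialRelation_of_sum_smul_eq_zero
    (R := A) (M := S) h2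
  choose Y hY using fun j => hφ (y j)
  have h4 : z = ∑ i, algebraMap A R (a i) * (r i - ∑ j, algebraMap A R (c i j) * Y j) := by
    have h5 : ∑ i, algebraMap A R (a i) * ∑ j, algebraMap A R (c i j) * Y j = 0 := by
      simp only [Finset.mul_sum]
      rw [Finset.sum_comm]
      refine Finset.sum_eq_zero fun j _ => ?_
      have h6 := congr(algebraMap A R $(hc j))
      rw [map_sum, map_zero] at h6
      have h7 : ∑ i, algebraMap A R (a i) * (algebraMap A R (c i j) * Y j) =
          (∑ i, algebraMap A R (a i * c i j)) * Y j := by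
        rw [Finset.sum_mul]
        refine Finset.sum_congr rfl fun i _ => ?_
        rw [map_mul, mul_assoc]
      rw [h7, h6, zero_mul]
    simp only [mul_sub, Finset.sum_sub_distrib]
    rw [h5, sub_zero, h1]
  rw [h4]
  refine Ideal.sum_mem _ fun i _ => Ideal.mul_mem_mul (Ideal.mem_map_of_mem _ (ha i)) ?_
  have hy' : φ (r i) = ∑ j, c i j • y j := hy i
  rw [RingHom.mem_ker, map_sub, map_sum, hy', sub_eq_zero]
  refine Finset.sum_congr rfl fun j _ => ?_
  rw [map_mul, AlgHom.commutes, hY, Algebra.smul_def]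

/-- A power series with all coefficients in a finitely generated ideal. -/
theorem mem_map_C_of_coeff {σ R : Type*} [CommRing R] {I : Ideal R} (hI : I.FG)
    (F : MvPowerSeries σ R) (hF : ∀ d, coeff d F ∈ I) :
    F ∈ I.map (C : R →+* MvPowerSeries σ R) := by
  obtain ⟨n, s, hs⟩ := (Submodule.fg_iff_exists_fin_generating_family).mp hI
  have h1 : ∀ d, ∃ c : Fin n → R, ∑ i, c i • s i = coeff d F := fun d => by
    have h2 := hF d
    rw [← hs] at h2
    exact (Submodule.mem_span_range_iff_exists_fun R).mp h2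
  choose c hc using h1
  have h3 : F = ∑ i, C (s i) * (show MvPowerSeries σ R from fun d => c d i) := by
    ext d
    rw [map_sum, ← hc d]
    refine Finset.sum_congr rfl fun i _ => ?_
    rw [coeff_C_mul, smul_eq_mul, mul_comm]
    rfl
  rw [h3]
  refine Ideal.sum_mem _ fun i _ => Ideal.mul_mem_right _ _ (Ideal.mem_map_of_mem _ ?_)
  have h4 : s i ∈ Submodule.span R (Set.range s) := Submodule.subset_span ⟨i, rfl⟩
  rw [hs] at h4
  exact h4

/-- Ring maps out of a power series ring are determined by constants and variables. -/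
theorem hom_ext_of_hausdorff {σ R D : Type*} [Finite σ] [CommRing R] [CommRing D] (J : Ideal D)
    [IsHausdorff J D] (f g : MvPowerSeries σ R →+* D) (hC : ∀ r, f (C r) = g (C r))
    (hX : ∀ i, f (X i) = g (X i)) (hJ : ∀ i, g (X i) ∈ J) : f = g := by
  ext F
  have hpow : ∀ (φ : MvPowerSeries σ R →+* D), (∀ i, φ (X i) ∈ J) → ∀ n,
      ∀ G ∈ Groth.Agent.Ega41.MvPS.varIdeal σ R ^ n, φ G ∈ J ^ n := by
    intro φ hφ n G hG
    have h1 : (Groth.Agent.Ega41.MvPS.varIdeal σ R ^ n).map φ ≤ J ^ n := by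
      rw [Ideal.map_pow]
      refine Ideal.pow_right_mono ?_ n
      rw [Ideal.map_span, Ideal.span_le]
      rintro _ ⟨_, ⟨i, rfl⟩, rfl⟩
      exact hφ i
    exact h1 (Ideal.mem_map_of_mem φ hG)
  have hpoly : f.comp (MvPolynomial.coeToMvPowerSeries.ringHom) =
      g.comp (MvPolynomial.coeToMvPowerSeries.ringHom) := by
    refine MvPolynomial.ringHom_ext (fun r => ?_) (fun i => ?_)
    · simpa using hC r
    · simpa using hX i
  rw [IsHausdorff.eq_iff_smodEq (I := J)]
  intro n
  rw [SModEq.sub_mem, smul_eq_mul, Ideal.mul_top]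
  have h1 := Groth.Agent.Ega41.MvPS.sub_truncTotal_mem n F
  have h2 := hpow f (fun i => by rw [hX]; exact hJ i) n _ h1
  have h3 := hpow g hJ n _ h1
  have h4 : f ((truncTotal n F : MvPolynomial σ R) : MvPowerSeries σ R) =
      g ((truncTotal n F : MvPolynomial σ R) : MvPowerSeries σ R) :=
    congr($hpoly (truncTotal n F))
  have h5 : f F - g F = f (F - ((truncTotal n F : MvPolynomial σ R) : MvPowerSeries σ R)) -
      g (F - ((truncTotal n F : MvPolynomial σ R) : MvPowerSeries σ R)) := by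
    rw [map_sub, map_sub, h4]; ring
  rw [h5]
  exact Ideal.sub_mem _ h2 h3

/-- Limits of sequences with differences in powers of an ideal. -/
theorem exists_lim {A : Type*} [CommRing A] (J : Ideal A) [IsPrecomplete J A] (f : ℕ → A)
    (hf : ∀ n, f (n + 1) - f n ∈ J ^ (n + 1)) : ∃ L : A, ∀ n, L - f n ∈ J ^ (n + 1) := by
  have hc : ∀ {m n : ℕ}, m ≤ n → f m ≡ f n [SMOD (J ^ m • ⊤ : Ideal A)] := by
    intro m n hmn
    induction n, hmn using Nat.le_induction with
    | base => exact SModEq.refl _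
    | succ n hmn ih =>
      refine ih.trans ?_
      rw [SModEq.sub_mem, smul_eq_mul, Ideal.mul_top]
      have h1 : f n - f (n + 1) = -(f (n + 1) - f n) := by ring
      rw [h1]
      exact Ideal.neg_mem_iff _ |>.mpr (Ideal.pow_le_pow_right (by omega) (hf n))
  obtain ⟨L, hL⟩ := IsPrecomplete.prec' (I := J) f hc
  refine ⟨L, fun n => ?_⟩
  have h1 := hL (n + 1)
  rw [SModEq.sub_mem, smul_eq_mul, Ideal.mul_top] at h1
  have h2 : L - f n = -(f (n + 1) - L) + (f (n + 1) - f n) := by ring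
  rw [h2]
  exact Ideal.add_mem _ ((Ideal.neg_mem_iff _).mpr h1) (hf n)

section Main

variable {R S : Type*} [CommRing R] [CommRing S] [Algebra R S]

/-- One Newton step. -/
theorem step {a b c d : S} (hd : d * (4 * a * c - b ^ 2) = 1) (J : Ideal S) (U V h ξ η δ : S)
    (h0 : a * U ^ 2 + b * U * V + c * V ^ 2 - h = δ + (U * ξ + V * η)) (hξ : ξ ∈ J) (hη : η ∈ J) :
    ∃ U' V' : S, U' - U ∈ J ∧ V' - V ∈ J ∧
      a * U' ^ 2 + b * U' * V' + c * V' ^ 2 - (h + δ) ∈ J * J := by
  have hr : d * (-2 * c * ξ + b * η) ∈ J :=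
    J.mul_mem_left _ (J.add_mem (J.mul_mem_left _ hξ) (J.mul_mem_left _ hη))
  have hs : d * (-2 * a * η + b * ξ) ∈ J :=
    J.mul_mem_left _ (J.add_mem (J.mul_mem_left _ hη) (J.mul_mem_left _ hξ))
  refine ⟨U + d * (-2 * c * ξ + b * η), V + d * (-2 * a * η + b * ξ), by simpa using hr,
    by simpa using hs, ?_⟩
  set r := d * (-2 * c * ξ + b * η) with hrdef
  set s := d * (-2 * a * η + b * ξ) with hsdef
  have e1 : 2 * a * r + b * s = -ξ := by
    rw [hrdef, hsdef]
    linear_combination (-ξ) * hd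
  have e2 : b * r + 2 * c * s = -η := by
    rw [hrdef, hsdef]
    linear_combination (-η) * hd
  have e3 : a * (U + r) ^ 2 + b * (U + r) * (V + s) + c * (V + s) ^ 2 - (h + δ) =
      a * (r * r) + b * (r * s) + c * (s * s) := by
    linear_combination h0 + U * e1 + V * e2
  rw [e3]
  exact (J * J).add_mem ((J * J).add_mem ((J * J).mul_mem_left _ (Ideal.mul_mem_mul hr hr))
    ((J * J).mul_mem_left _ (Ideal.mul_mem_mul hr hs)))
    ((J * J).mul_mem_left _ (Ideal.mul_mem_mul hs hs))

/-- Decomposition of elements of `I ^ n S`. -/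
theorem exists_decomp (I : Ideal R) (U V : S) (hs : ∀ x : S, ∃ (r : R) (ξ η : S),
    x = algebraMap R S r + (U * ξ + V * η)) (x : S) (hx : x ∈ I.map (algebraMap R S)) :
    ∃ r ∈ I, ∃ ξ ∈ I.map (algebraMap R S), ∃ η ∈ I.map (algebraMap R S),
      x = algebraMap R S r + (U * ξ + V * η) := by
  refine Submodule.span_induction (p := fun x _ => ∃ r ∈ I, ∃ ξ ∈ I.map (algebraMap R S),
    ∃ η ∈ I.map (algebraMap R S), x = algebraMap R S r + (U * ξ + V * η)) ?_ ?_ ?_ ?_ hx
  · rintro _ ⟨r, hr, rfl⟩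
    exact ⟨r, hr, 0, Ideal.zero_mem _, 0, Ideal.zero_mem _, by simp⟩
  · exact ⟨0, I.zero_mem, 0, Ideal.zero_mem _, 0, Ideal.zero_mem _, by simp⟩
  · rintro x y - - ⟨r, hr, ξ, hξ, η, hη, rfl⟩ ⟨r', hr', ξ', hξ', η', hη', rfl⟩
    exact ⟨r + r', I.add_mem hr hr', ξ + ξ', Ideal.add_mem _ hξ hξ', η + η',
      Ideal.add_mem _ hη hη', by rw [map_add]; ring⟩
  · rintro t x - ⟨r, hr, ξ, hξ, η, hη, rfl⟩
    obtain ⟨t0, ξ0, η0, rfl⟩ := hs t
    refine ⟨t0 * r, I.mul_mem_left _ hr, ξ0 * algebraMap R S r +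
      (algebraMap R S t0 + (U * ξ0 + V * η0)) * ξ, ?_, η0 * algebraMap R S r +
      (algebraMap R S t0 + (U * ξ0 + V * η0)) * η, ?_, ?_⟩
    · exact Ideal.add_mem _ (Ideal.mul_mem_left _ _ (Ideal.mem_map_of_mem _ hr))
        (Ideal.mul_mem_left _ _ hξ)
    · exact Ideal.add_mem _ (Ideal.mul_mem_left _ _ (Ideal.mem_map_of_mem _ hr))
        (Ideal.mul_mem_left _ _ hη)
    · rw [smul_eq_mul, map_mul]; ring

section Limit

variable (I : Ideal R) {a b c d : R} (U0 V0 : S)

theorem exists_normal [IsPrecomplete I R] [IsAdicComplete (I.map (algebraMap R S)) S]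
    (hd : d * (4 * a * c - b ^ 2) = 1)
    (h0 : algebraMap R S a * U0 ^ 2 + algebraMap R S b * U0 * V0 + algebraMap R S c * V0 ^ 2 ∈
      I.map (algebraMap R S))
    (hdec : ∀ U V : S, U - U0 ∈ I.map (algebraMap R S) → V - V0 ∈ I.map (algebraMap R S) →
      ∀ x : S, ∃ (r : R) (ξ η : S), x = algebraMap R S r + (U * ξ + V * η)) :
    ∃ U V : S, U - U0 ∈ I.map (algebraMap R S) ∧ V - V0 ∈ I.map (algebraMap R S) ∧ ∃ h ∈ I,
      algebraMap R S a * U ^ 2 + algebraMap R S b * U * V + algebraMap R S c * V ^ 2 =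
        algebraMap R S h := by
  set J := I.map (algebraMap R S) with hJ
  have hd' : algebraMap R S d * (4 * algebraMap R S a * algebraMap R S c - algebraMap R S b ^ 2) =
      1 := by
    have := congr(algebraMap R S $hd)
    rwa [map_mul, map_sub, map_mul, map_mul, map_pow, map_one, map_ofNat] at this
  let P : ℕ → S × S × R → Prop := fun n x => x.1 - U0 ∈ J ∧ x.2.1 - V0 ∈ J ∧ x.2.2 ∈ I ∧
    algebraMap R S a * x.1 ^ 2 + algebraMap R S b * x.1 * x.2.1 + algebraMap R S c * x.2.1 ^ 2 -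
      algebraMap R S x.2.2 ∈ J ^ (n + 1)
  have hstep : ∀ (n : ℕ) (x : S × S × R), ∃ y : S × S × R, P n x → (P (n + 1) y ∧
      y.1 - x.1 ∈ J ^ (n + 1) ∧ y.2.1 - x.2.1 ∈ J ^ (n + 1) ∧ y.2.2 - x.2.2 ∈ I ^ (n + 1)) := by
    intro n x
    by_cases hx : P n x
    · obtain ⟨h1, h2, h3, h4⟩ := hx
      rw [hJ, ← Ideal.map_pow] at h4
      obtain ⟨δ, hδ, ξ, hξ, η, hη, hq⟩ := exists_decomp (I ^ (n + 1)) x.1 x.2.1
        (hdec x.1 x.2.1 h1 h2) _ h4
      obtain ⟨U', V', hU', hV', hq'⟩ := step hd' ((I ^ (n + 1)).map (algebraMap R S)) x.1 x.2.1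
        (algebraMap R S x.2.2) ξ η (algebraMap R S δ) hq hξ hη
      rw [Ideal.map_pow] at hU' hV' hq'
      have hle : J ^ (n + 1) ≤ J := Ideal.pow_le_self (by omega)
      refine ⟨(U', V', x.2.2 + δ), fun _ => ⟨⟨?_, ?_, ?_, ?_⟩, hU', hV', ?_⟩⟩
      · have : U' - U0 = (U' - x.1) + (x.1 - U0) := by ring
        rw [this]
        exact J.add_mem (hle hU') h1
      · have : V' - V0 = (V' - x.2.1) + (x.2.1 - V0) := by ring
        rw [this]
        exact J.add_mem (hle hV') h2
      · exact I.add_mem h3 (Ideal.pow_le_self (by omega) hδ)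
      · rw [map_add]
        refine (?_ : _ ≤ J ^ (n + 1 + 1)) hq'
        rw [← pow_add]
        exact Ideal.pow_le_pow_right (by omega)
      · simpa using hδ
    · exact ⟨x, fun h => absurd h hx⟩
  choose next hnext using hstep
  let seq : ℕ → S × S × R := fun n => Nat.rec (U0, V0, 0) (fun n x => next n x) n
  have hseq : ∀ n, seq (n + 1) = next n (seq n) := fun n => rfl
  have hP : ∀ n, P n (seq n) := by
    intro n
    induction n with
    | zero =>
      refine ⟨by simp [seq], by simp [seq], by simp [seq], ?_⟩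
      simpa [seq] using h0
    | succ n ih =>
      rw [hseq]
      exact (hnext n _ ih).1
  obtain ⟨U, hU⟩ := exists_lim J (fun n => (seq n).1) fun n => (hnext n _ (hP n)).2.1
  obtain ⟨V, hV⟩ := exists_lim J (fun n => (seq n).2.1) fun n => (hnext n _ (hP n)).2.2.1
  obtain ⟨h, hh⟩ := exists_lim I (fun n => (seq n).2.2) fun n => (hnext n _ (hP n)).2.2.2
  refine ⟨U, V, ?_, ?_, h, ?_, ?_⟩
  · simpa [seq] using hU 0
  · simpa [seq] using hV 0
  · simpa [seq] using hh 0
  · rw [IsHausdorff.eq_iff_smodEq (I := J)]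
    intro n
    rw [SModEq.sub_mem, smul_eq_mul, Ideal.mul_top]
    have e1 := hU n
    have e2 := hV n
    have e3 : algebraMap R S (h - (seq n).2.2) ∈ J ^ (n + 1) := by
      rw [hJ, ← Ideal.map_pow]
      exact Ideal.mem_map_of_mem _ (hh n)
    have e4 := (hP n).2.2.2
    refine Ideal.pow_le_pow_right (Nat.le_succ n) ?_
    set u := (seq n).1
    set v := (seq n).2.1
    set w := (seq n).2.2
    have e5 : algebraMap R S a * U ^ 2 + algebraMap R S b * U * V + algebraMap R S c * V ^ 2 -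
        algebraMap R S h = (algebraMap R S a * (U + u) + algebraMap R S b * V) * (U - u) +
        (algebraMap R S b * u + algebraMap R S c * (V + v)) * (V - v) +
        (algebraMap R S a * u ^ 2 + algebraMap R S b * u * v + algebraMap R S c * v ^ 2 -
          algebraMap R S w) - algebraMap R S (h - w) := by
      rw [map_sub]; ring
    rw [e5]
    exact Ideal.sub_mem _ (Ideal.add_mem _ (Ideal.add_mem _ (Ideal.mul_mem_left _ _ e1)
      (Ideal.mul_mem_left _ _ e2)) e4) e3

end Limit

section Final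

variable {R S : Type u} [CommRing R] [CommRing S] [Algebra R S]
variable [IsLocalRing R] [IsLocalRing S] [IsNoetherianRing S]
  [IsAdicComplete (maximalIdeal R) R]

theorem exists_decomp_top (hloc : (maximalIdeal R).map (algebraMap R S) ≤ maximalIdeal S) (U V : S)
    (hU : U ∈ maximalIdeal S) (hV : V ∈ maximalIdeal S)
    (H : ∀ x : S, ∃ (r : R) (ξ η : S), x - (algebraMap R S r + (U * ξ + V * η)) ∈
      (maximalIdeal R).map (algebraMap R S)) (x : S) :
    ∃ (r : R) (ξ η : S), x = algebraMap R S r + (U * ξ + V * η) := by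
  set K : Ideal S := Ideal.span {U, V} with hK
  have hKm : K ≤ maximalIdeal S := by
    rw [hK, Ideal.span_le]
    rintro y (rfl | rfl)
    · exact hU
    · exact hV
  have hnt : Nontrivial (S ⧸ K) := Ideal.Quotient.nontrivial_iff.mpr fun h =>
    (maximalIdeal.isMaximal S).ne_top (top_le_iff.mp (h ▸ hKm))
  have hlr : IsLocalRing (S ⧸ K) := IsLocalRing.of_surjective' _ Ideal.Quotient.mk_surjective
  let f : R →+* S ⧸ K := (Ideal.Quotient.mk K).comp (algebraMap R S)
  have hfm : (maximalIdeal R).map f = ((maximalIdeal R).map (algebraMap R S)).map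
      (Ideal.Quotient.mk K) := by rw [Ideal.map_map]
  have hle : (maximalIdeal R).map f ≤ maximalIdeal (S ⧸ K) := by
    rw [hfm]
    refine (Ideal.map_mono hloc).trans ?_
    exact (IsLocalRing.map_maximalIdeal_of_surjective (Ideal.Quotient.mk K)
      Ideal.Quotient.mk_surjective).le
  have hhaus : IsHausdorff ((maximalIdeal R).map f) (S ⧸ K) :=
    IsHausdorff.of_le_jacobson _ _ (hle.trans (IsLocalRing.maximalIdeal_le_jacobson _))
  have hsurj : Function.Surjective f := by
    refine surjective_of_mk_map_comp_surjective (I := maximalIdeal R) (f := f) ?_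
    intro y
    obtain ⟨y, rfl⟩ := Ideal.Quotient.mk_surjective y
    obtain ⟨y, rfl⟩ := Ideal.Quotient.mk_surjective y
    obtain ⟨r, ξ, η, h⟩ := H y
    refine ⟨r, ?_⟩
    change Ideal.Quotient.mk _ (Ideal.Quotient.mk K (algebraMap R S r)) = _
    rw [Ideal.Quotient.eq]
    have h1 : Ideal.Quotient.mk K (U * ξ + V * η) = 0 := by
      rw [Ideal.Quotient.eq_zero_iff_mem]
      exact K.add_mem (K.mul_mem_right _ (Ideal.subset_span (by simp)))
        (K.mul_mem_right _ (Ideal.subset_span (by simp)))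
    have h2 : Ideal.Quotient.mk K (algebraMap R S r) - Ideal.Quotient.mk K y =
        - Ideal.Quotient.mk K (y - (algebraMap R S r + (U * ξ + V * η))) := by
      rw [map_sub, map_add _ (algebraMap R S r), h1]; ring
    rw [h2, hfm]
    exact (Ideal.neg_mem_iff _).mpr (Ideal.mem_map_of_mem _ h)
  obtain ⟨r, hr⟩ := hsurj (Ideal.Quotient.mk K x)
  have h3 : x - algebraMap R S r ∈ K := by
    rw [← Ideal.Quotient.eq]
    exact hr.symm
  rw [hK, Ideal.mem_span_pair] at h3
  obtain ⟨ξ, η, h4⟩ := h3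
  exact ⟨r, ξ, η, by linear_combination -h4⟩

/-- The binary quadratic form `a u² + b u v + c v²`, minus `h`. -/
noncomputable abbrev qs (a b c h : R) : MvPowerSeries (Fin 2) R :=
  C a * X 0 ^ 2 + C b * X 0 * X 1 + C c * X 1 ^ 2 - C h

theorem main [IsNoetherianRing R] [IsAdicComplete (maximalIdeal S) S]
    {κ : Type*} [Field κ] (ρ : R →+* κ) (hρ : Function.Surjective ρ) [Module.Flat R S]
    (a b c : R) (hdisc : IsUnit (b ^ 2 - 4 * a * c))
    (q : MvPowerSeries (Fin 2) κ)
    (hq : q = C (ρ a) * X 0 ^ 2 + C (ρ b) * X 0 * X 1 + C (ρ c) * X 1 ^ 2)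
    (π : S →+* (MvPowerSeries (Fin 2) κ ⧸ Ideal.span {q}))
    (hπ : Function.Surjective π)
    (hker : RingHom.ker π = (maximalIdeal R).map (algebraMap R S))
    (hc : ∀ r, π (algebraMap R S r) = Ideal.Quotient.mk _ (C (ρ r))) :
    ∃ h ∈ maximalIdeal R, ∃ e : S ≃+* (MvPowerSeries (Fin 2) R ⧸ Ideal.span {qs a b c h}),
      ∀ r, e (algebraMap R S r) = Ideal.Quotient.mk _ (C r) := by
  set I := maximalIdeal R with hI
  have hρk : RingHom.ker ρ = I := by
    have h1 : (RingHom.ker ρ).IsMaximal := RingHom.ker_isMaximal_of_surjective ρ hρ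
    exact IsLocalRing.eq_maximalIdeal h1
  -- the augmentation of the closed fibre
  have hq0 : constantCoeff q = 0 := by
    rw [hq]; simp
  let ε : (MvPowerSeries (Fin 2) κ ⧸ Ideal.span {q}) →+* κ :=
    Ideal.Quotient.lift _ (constantCoeff (σ := Fin 2) (R := κ)) (by
      intro x hx
      obtain ⟨y, rfl⟩ := Ideal.mem_span_singleton.mp hx
      rw [map_mul, hq0, zero_mul])
  have hε : ∀ F, ε (Ideal.Quotient.mk _ F) = constantCoeff F := fun F => Ideal.Quotient.lift_mk _ _ _
  have hmem : ∀ x : S, ε (π x) = 0 → x ∈ maximalIdeal S := by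
    intro x hx
    rw [mem_maximalIdeal, mem_nonunits_iff]
    intro hu
    exact (hu.map (ε.comp π)).ne_zero hx
  have hloc : I.map (algebraMap R S) ≤ maximalIdeal S := by
    rw [← hker]
    intro x hx
    exact hmem x (by rw [show π x = 0 from hx, map_zero])
  obtain ⟨U0, hU0⟩ := hπ (Ideal.Quotient.mk _ (X 0))
  obtain ⟨V0, hV0⟩ := hπ (Ideal.Quotient.mk _ (X 1))
  have hdecomp : ∀ x : S, ∃ (r : R) (ξ η : S), x - (algebraMap R S r + (U0 * ξ + V0 * η)) ∈
      I.map (algebraMap R S) := by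
    intro x
    obtain ⟨F, hF⟩ := Ideal.Quotient.mk_surjective (π x)
    obtain ⟨r, hr⟩ := hρ (constantCoeff F)
    have h1 : F - C (ρ r) ∈ Ideal.span (Set.range (X : Fin 2 → MvPowerSeries (Fin 2) κ)) := by
      rw [Groth.Agent.Ega41.PowComplete.mem_span_X_iff]
      simp [hr]
    have h2 : Set.range (X : Fin 2 → MvPowerSeries (Fin 2) κ) = {X 0, X 1} := by
      ext y
      simp only [Set.mem_range, Fin.exists_fin_two, Set.mem_insert_iff, Set.mem_singleton_iff,
        eq_comm]
    rw [h2, Ideal.mem_span_pair] at h1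
    obtain ⟨G0, G1, hG⟩ := h1
    obtain ⟨ξ, hξ⟩ := hπ (Ideal.Quotient.mk _ G0)
    obtain ⟨η, hη⟩ := hπ (Ideal.Quotient.mk _ G1)
    refine ⟨r, ξ, η, ?_⟩
    rw [← hker, RingHom.mem_ker, map_sub, map_add, map_add, map_mul, map_mul, hc, hU0, hV0, hξ, hη,
      ← hF, ← map_mul, ← map_mul, ← map_add, ← map_add, ← map_sub]
    have h3 : F - (C (ρ r) + (X 0 * G0 + X 1 * G1)) = 0 := by linear_combination -hG
    rw [h3, map_zero]
  have hkerle : ∀ {x y : S}, x - y ∈ I.map (algebraMap R S) → π x = π y := by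
    intro x y h
    rw [← hker, RingHom.mem_ker, map_sub, sub_eq_zero] at h
    exact h
  have hmU : ∀ U, U - U0 ∈ I.map (algebraMap R S) → U ∈ maximalIdeal S := by
    intro U h
    refine hmem U ?_
    rw [hkerle h, hU0, hε]; simp
  have hmV : ∀ V, V - V0 ∈ I.map (algebraMap R S) → V ∈ maximalIdeal S := by
    intro V h
    refine hmem V ?_
    rw [hkerle h, hV0, hε]; simp
  have hdec : ∀ U V : S, U - U0 ∈ I.map (algebraMap R S) → V - V0 ∈ I.map (algebraMap R S) →
      ∀ x : S, ∃ (r : R) (ξ η : S), x = algebraMap R S r + (U * ξ + V * η) := by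
    intro U V hU hV
    refine exists_decomp_top hloc U V (hmU U hU) (hmV V hV) fun x => ?_
    obtain ⟨r, ξ, η, h⟩ := hdecomp x
    refine ⟨r, ξ, η, ?_⟩
    have h1 : x - (algebraMap R S r + (U * ξ + V * η)) =
        (x - (algebraMap R S r + (U0 * ξ + V0 * η))) - (ξ * (U - U0) + η * (V - V0)) := by ring
    rw [h1]
    exact Ideal.sub_mem _ h (Ideal.add_mem _ (Ideal.mul_mem_left _ _ hU)
      (Ideal.mul_mem_left _ _ hV))
  obtain ⟨d', hd'⟩ := hdisc.exists_right_inv
  have hcomp : IsAdicComplete (I.map (algebraMap R S)) S :=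
    Groth.Agent.CalgA.AdicLe.isAdicComplete_of_le (J := maximalIdeal S) hloc
      (IsNoetherian.noetherian _)
  obtain ⟨U, V, hU, hV, h, hh, hQ⟩ := exists_normal I (a := a) (b := b) (c := c) (d := -d') U0 V0
    (by linear_combination hd') (by
      rw [← hker, RingHom.mem_ker, map_add, map_add, map_mul, map_mul, map_mul, map_mul, map_pow,
        map_pow, hc, hc, hc, hU0, hV0, ← map_pow, ← map_pow, ← map_mul, ← map_mul, ← map_mul,
        ← map_mul, ← map_add, ← map_add]
      exact Ideal.Quotient.eq_zero_iff_mem.mpr (Ideal.subset_span (by rw [← hq]; rfl))) hdec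
  refine ⟨h, hh, ?_⟩
  -- the presentation
  have hUV : ∀ i, (![U, V] : Fin 2 → S) i ∈ maximalIdeal S := by
    intro i
    fin_cases i
    · exact hmU U hU
    · exact hmV V hV
  let ψ : MvPowerSeries (Fin 2) R →ₐ[R] S :=
    Groth.Agent.Ega41.PowEval.powEval (maximalIdeal S) ![U, V] hUV
  have hψX : ∀ i, ψ (X i) = (![U, V] : Fin 2 → S) i := by
    intro i
    have h1 := Groth.Agent.Ega41.PowEval.powEval_coe (R := R) (maximalIdeal S) ![U, V] hUV
      (MvPolynomial.X i)
    rw [MvPolynomial.coe_X, MvPolynomial.aeval_X] at h1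
    exact h1
  have hψ0 : ψ (X 0) = U := hψX 0
  have hψ1 : ψ (X 1) = V := hψX 1
  have hψC : ∀ r, ψ (C r) = algebraMap R S r := fun r => ψ.commutes r
  have hψsurj : Function.Surjective ψ := by
    have h1 := Groth.Agent.Ega41.PowComplete.isAdicComplete_span_X (σ := Fin 2) (R := R)
    have h2 : (Ideal.span (Set.range (X : Fin 2 → MvPowerSeries (Fin 2) R))).map
        (ψ : MvPowerSeries (Fin 2) R →+* S) ≤ maximalIdeal S := by
      rw [Ideal.map_span, Ideal.span_le]
      rintro _ ⟨_, ⟨i, rfl⟩, rfl⟩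
      change ψ (X i) ∈ _
      rw [hψX]
      exact hUV i
    have h3 : IsHausdorff ((Ideal.span (Set.range (X : Fin 2 → MvPowerSeries (Fin 2) R))).map
        (ψ : MvPowerSeries (Fin 2) R →+* S)) S :=
      IsHausdorff.of_le_jacobson _ _ (h2.trans (IsLocalRing.maximalIdeal_le_jacobson _))
    refine surjective_of_mk_map_comp_surjective
      (I := Ideal.span (Set.range (X : Fin 2 → MvPowerSeries (Fin 2) R)))
      (f := (ψ : MvPowerSeries (Fin 2) R →+* S)) ?_
    intro y
    obtain ⟨y, rfl⟩ := Ideal.Quotient.mk_surjective y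
    obtain ⟨r, ξ, η, h4⟩ := hdec U V hU hV y
    refine ⟨C r, ?_⟩
    rw [RingHom.comp_apply, Ideal.Quotient.eq]
    have h5 : (ψ : MvPowerSeries (Fin 2) R →+* S) (C r) - y = -(ξ * U + η * V) := by
      change ψ (C r) - y = _
      rw [hψC, h4]; ring
    rw [h5, Ideal.neg_mem_iff]
    refine Ideal.add_mem _ (Ideal.mul_mem_left _ _ ?_) (Ideal.mul_mem_left _ _ ?_)
    · rw [← hψ0]
      exact Ideal.mem_map_of_mem (ψ : MvPowerSeries (Fin 2) R →+* S) (Ideal.subset_span ⟨0, rfl⟩)
    · rw [← hψ1]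
      exact Ideal.mem_map_of_mem (ψ : MvPowerSeries (Fin 2) R →+* S) (Ideal.subset_span ⟨1, rfl⟩)
  have hψq : ψ (qs a b c h) = 0 := by
    simp only [qs, map_sub, map_add, map_mul, map_pow, hψC, hψ0, hψ1]
    rw [hQ, sub_self]
  let P := MvPowerSeries (Fin 2) R ⧸ Ideal.span {qs a b c h}
  let ψ' : P →ₐ[R] S := Ideal.Quotient.liftₐ _ ψ (by
    intro x hx
    obtain ⟨y, rfl⟩ := Ideal.mem_span_singleton.mp hx
    rw [map_mul, hψq, zero_mul])
  have hψ' : ∀ F, ψ' (Ideal.Quotient.mk _ F) = ψ F := fun F => Ideal.Quotient.lift_mk _ _ _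
  have hψ'surj : Function.Surjective ψ' := by
    intro y
    obtain ⟨F, rfl⟩ := hψsurj y
    exact ⟨Ideal.Quotient.mk _ F, hψ' F⟩
  -- comparison modulo `m_R`
  have hDnt : Nontrivial (MvPowerSeries (Fin 2) κ ⧸ Ideal.span {q}) := ε.domain_nontrivial
  have hDloc : IsLocalRing (MvPowerSeries (Fin 2) κ ⧸ Ideal.span {q}) :=
    IsLocalRing.of_surjective' _ Ideal.Quotient.mk_surjective
  have hcompat : π.comp (ψ : MvPowerSeries (Fin 2) R →+* S) =
      (Ideal.Quotient.mk (Ideal.span {q})).comp (MvPowerSeries.map ρ) := by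
    refine hom_ext_of_hausdorff (maximalIdeal (MvPowerSeries (Fin 2) κ ⧸ Ideal.span {q})) _ _
      (fun r => ?_) (fun i => ?_) (fun i => ?_)
    · change π (ψ (C r)) = Ideal.Quotient.mk _ (MvPowerSeries.map ρ (C r))
      rw [hψC, hc, MvPowerSeries.map_C]
    · change π (ψ (X i)) = Ideal.Quotient.mk _ (MvPowerSeries.map ρ (X i))
      rw [hψX, MvPowerSeries.map_X]
      fin_cases i
      · exact (hkerle hU).trans hU0
      · exact (hkerle hV).trans hV0
    · change Ideal.Quotient.mk _ (MvPowerSeries.map ρ (X i)) ∈ _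
      rw [MvPowerSeries.map_X, mem_maximalIdeal, mem_nonunits_iff]
      intro hu
      refine (hu.map ε).ne_zero ?_
      rw [hε]; simp
  have hmapsurj : ∀ G : MvPowerSeries (Fin 2) κ, ∃ F : MvPowerSeries (Fin 2) R,
      MvPowerSeries.map ρ F = G := by
    intro G
    choose F hF using fun e => hρ (coeff e G)
    refine ⟨(show MvPowerSeries (Fin 2) R from F), ?_⟩
    ext e
    rw [MvPowerSeries.coeff_map]
    exact hF e
  have hkle : RingHom.ker ψ' ≤ I.map (algebraMap R P) := by
    intro x hx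
    obtain ⟨F, rfl⟩ := Ideal.Quotient.mk_surjective x
    have h1 : ψ F = 0 := by rw [← hψ']; exact hx
    have h2 : Ideal.Quotient.mk (Ideal.span {q}) (MvPowerSeries.map ρ F) = 0 := by
      have h3 := congr($hcompat F)
      change π (ψ F) = Ideal.Quotient.mk _ (MvPowerSeries.map ρ F) at h3
      rw [← h3, h1, map_zero]
    rw [Ideal.Quotient.eq_zero_iff_mem, Ideal.mem_span_singleton] at h2
    obtain ⟨G, hG⟩ := h2
    obtain ⟨G', rfl⟩ := hmapsurj G
    have h4 : F - (C a * X 0 ^ 2 + C b * X 0 * X 1 + C c * X 1 ^ 2) * G' ∈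
        I.map (C : R →+* MvPowerSeries (Fin 2) R) := by
      refine mem_map_C_of_coeff (IsNoetherian.noetherian _) _ fun e => ?_
      rw [← hρk, RingHom.mem_ker, ← MvPowerSeries.coeff_map, map_sub, map_mul, hG, hq]
      simp
    have h5 : F = (F - (C a * X 0 ^ 2 + C b * X 0 * X 1 + C c * X 1 ^ 2) * G') + C h * G' +
        qs a b c h * G' := by
      simp only [qs]; ring
    have h6 : I.map (algebraMap R P) = (I.map (C : R →+* MvPowerSeries (Fin 2) R)).map
        (Ideal.Quotient.mk (Ideal.span {qs a b c h})) := by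
      rw [Ideal.map_map]; rfl
    rw [h6, h5, map_add, map_add]
    refine Ideal.add_mem _ (Ideal.add_mem _ (Ideal.mem_map_of_mem _ h4)
      (Ideal.mem_map_of_mem _ (Ideal.mul_mem_right _ _ (Ideal.mem_map_of_mem _ hh)))) ?_
    rw [(Ideal.Quotient.eq_zero_iff_mem (I := Ideal.span {qs a b c h})).mpr
      (Ideal.mul_mem_right _ _ (Ideal.mem_span_singleton_self _))]
    exact Ideal.zero_mem _
  have hPnt : Nontrivial P := (ψ' : P →+* S).domain_nontrivial
  have hPloc : IsLocalRing P := IsLocalRing.of_surjective' _ Ideal.Quotient.mk_surjective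
  have hPm : I.map (algebraMap R P) ≤ maximalIdeal P := by
    rw [Ideal.map_le_iff_le_comap]
    intro r hr
    rw [Ideal.mem_comap, mem_maximalIdeal, mem_nonunits_iff]
    intro hu
    have h1 := hu.map ψ'
    rw [AlgHom.commutes] at h1
    exact (mem_nonunits_iff.mp ((mem_maximalIdeal _).mp (hloc (Ideal.mem_map_of_mem _ hr)))) h1
  have hk0 : RingHom.ker ψ' = ⊥ := by
    refine Submodule.eq_bot_of_le_smul_of_le_jacobson_bot (I.map (algebraMap R P)) (RingHom.ker ψ')
      (IsNoetherian.noetherian _) ?_ (hPm.trans (IsLocalRing.maximalIdeal_le_jacobson _))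
    refine le_trans ?_ (inf_ker_le ψ' hψ'surj I)
    exact le_inf hkle le_rfl
  have hinj : Function.Injective ψ' := (RingHom.injective_iff_ker_eq_bot _).mpr hk0
  refine ⟨(RingEquiv.ofBijective ψ' ⟨hinj, hψ'surj⟩).symm, fun r => ?_⟩
  rw [RingEquiv.symm_apply_eq]
  exact (ψ'.commutes r).symm

end Final

end Main

end K148.NodeFam
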