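import Groth.Agent.Curves.K148.NodeCpl
import Groth.Agent.Flat2D.PbStalk
import Groth.Agent.Models.K381.StHom

/-!
Completion of a flat family at a point where the fibre has a binary quadratic singularity.
-/

set_option autoImplicit false

universe u

namespace K148.NodeScheme

open IsLocalRing MvPowerSeries CategoryTheory CategoryTheory.Limits AlgebraicGeometry
open Groth.Agent.Flat2D.PbStalk

theorem residue_comp {T S : Scheme.{u}} (f : T ⟶ S) (t : T)
    (j : S.residueField (f t) ⟶ (f.fiber (f t)).presheaf.stalk (f.asFiber t))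
    (hj : Spec.map j = (f.fiber (f t)).fromSpecStalk (f.asFiber t) ≫
      f.fiberToSpecResidueField (f t)) :
    S.residue (f t) ≫ j =
      f.stalkMap t ≫ stalkTo (f.fiberι (f t)) (f.asFiber t) (f.fiberι_asFiber t) := by
  apply Spec.map_injective
  rw [Spec.map_comp, Spec.map_comp, ← cancel_mono (S.fromSpecStalk (f t)), Category.assoc,
    Category.assoc, Scheme.SpecMap_stalkMap_fromSpecStalk, SpecMap_stalkTo_assoc, hj,
    Category.assoc]
  congr 1
  exact pullback.condition.symm

/-- The structure map `κ(s) → O_{T_s, t}` as in the prelude. -/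
noncomputable abbrev st {T S : Scheme.{u}} (f : T ⟶ S) (t : T) :
    S.residueField (f t) →+* (f.fiber (f t)).presheaf.stalk (f.asFiber t) :=
  @Curv2.stalkMap (S.residueField (f t)) _ (f.fiber (f t))
    ⟨f.fiberToSpecResidueField (f t)⟩ (f.asFiber t)

/-- The structure map of the fibre over the residue field is compatible with the stalk maps. -/
theorem st_residue {T S : Scheme.{u}} (f : T ⟶ S) (t : T) (a : S.presheaf.stalk (f t)) :
    st f t ((S.residue (f t)).hom a) =
      (stalkTo (f.fiberι (f t)) (f.asFiber t) (f.fiberι_asFiber t)).hom ((f.stalkMap t).hom a) := by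
  have h1 := residue_comp f t (CommRingCat.ofHom (st f t))
    (K381.StHom.specMap_st (A := S.residueField (f t)) (f.fiberToSpecResidueField (f t))
      (f.asFiber t))
  exact congr($(congrArg CommRingCat.Hom.hom h1) a)

theorem main {T S : Scheme.{u}} (f : T ⟶ S) [LocallyOfFiniteType f] (t : T)
    [IsNoetherianRing (S.presheaf.stalk (f t))] (hfl : (f.stalkMap t).hom.Flat) :
    ∃ ρ' : AdicCompletion (maximalIdeal (S.presheaf.stalk (f t))) (S.presheaf.stalk (f t)) →+*
        S.residueField (f t), Function.Surjective ρ' ∧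
      ∀ (a b c : AdicCompletion (maximalIdeal (S.presheaf.stalk (f t))) (S.presheaf.stalk (f t)))
        (_ : ρ' (b ^ 2 - 4 * a * c) ≠ 0) (q : MvPowerSeries (Fin 2) (S.residueField (f t)))
        (_ : q = C (ρ' a) * X 0 ^ 2 + C (ρ' b) * X 0 * X 1 + C (ρ' c) * X 1 ^ 2)
        (e : AdicCompletion (maximalIdeal ((f.fiber (f t)).presheaf.stalk (f.asFiber t)))
          ((f.fiber (f t)).presheaf.stalk (f.asFiber t)) ≃+*
            (MvPowerSeries (Fin 2) (S.residueField (f t)) ⧸ Ideal.span {q}))
        (_ : ∀ r, e (algebraMap ((f.fiber (f t)).presheaf.stalk (f.asFiber t)) _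
          (st f t r)) = Ideal.Quotient.mk _ (C r)),
        IsUnit (b ^ 2 - 4 * a * c) ∧ ∃ h ∈ maximalIdeal
            (AdicCompletion (maximalIdeal (S.presheaf.stalk (f t))) (S.presheaf.stalk (f t))),
          ∃ e : AdicCompletion (maximalIdeal (T.presheaf.stalk t)) (T.presheaf.stalk t) ≃+*
              (MvPowerSeries (Fin 2) (AdicCompletion (maximalIdeal (S.presheaf.stalk (f t)))
                (S.presheaf.stalk (f t))) ⧸ Ideal.span {NodeFam.qs a b c h}),
            ∀ r : S.presheaf.stalk (f t), e (algebraMap (T.presheaf.stalk t) _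
              ((f.stalkMap t).hom r)) = Ideal.Quotient.mk _ (C (algebraMap _ _ r)) := by
  let _ : Algebra (S.presheaf.stalk (f t)) (T.presheaf.stalk t) := (f.stalkMap t).hom.toAlgebra
  have hfl' : Module.Flat (S.presheaf.stalk (f t)) (T.presheaf.stalk t) := hfl
  have heft : Algebra.EssFiniteType (S.presheaf.stalk (f t)) (T.presheaf.stalk t) :=
    LocallyOfFiniteType.stalkMap f t
  have hNB : IsNoetherianRing (T.presheaf.stalk t) :=
    Algebra.EssFiniteType.isNoetherianRing (S.presheaf.stalk (f t)) (T.presheaf.stalk t)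
  have hloc : IsLocalHom (algebraMap (S.presheaf.stalk (f t)) (T.presheaf.stalk t)) :=
    inferInstanceAs (IsLocalHom (f.stalkMap t).hom)
  have hρ : Function.Surjective (S.residue (f t)).hom := S.residue_surjective (f t)
  obtain ⟨ρ', h1, h2⟩ := NodeCpl.exists_residue (S.residue (f t)).hom hρ
  refine ⟨ρ', h2, fun a b c hd q hq e he => ?_⟩
  have hpb := IsPullback.of_hasPullback f (S.fromSpecResidueField (f t))
  have hpre : IsPreimmersion (f.fiberι (f t)) := isPreimmersion_of_isPullback f hpb
  exact NodeCpl.main (A := S.presheaf.stalk (f t)) (B := T.presheaf.stalk t)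
    (stalkTo (f.fiberι (f t)) (f.asFiber t) (f.fiberι_asFiber t)).hom
    (stalkTo_surjective _ _ _) (ker_stalkTo hpb _ _) (S.residue (f t)).hom hρ _
    (st_residue f t) ρ' h1 h2 a b c hd q hq e he

end K148.NodeScheme
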